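import Mathlib
import Groth.Agent.Lib.Helper9.FittSplit.Main

/-!
# The unique locally free quotient of a module whose Fitting ideal is invertible (helper5)

If `Fit_j(P) = 0` for `j < k` and `Fit_k(P) = (t)` with `t` a nonzerodivisor, then `P` has exactly
one quotient which is finite projective of constant rank `k`: the quotient by the `t`-torsion.
(The local freeness of that quotient is helper9's `FittSplit`.)
-/

set_option autoImplicit false
universe u
open Module

noncomputable section

namespace Groth.Agent.Lib.Helper5.QuotBlow

open Groth.Agent.Helper4.Fitting Groth.Agent.Helper9.FittSplit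

variable {B : Type u} [CommRing B] (P : Type u) [AddCommGroup P] [Module B P]
  [Module.FinitePresentation B P] (k : ℕ) (t : B)

/-- the `t`-torsion -/
abbrev tors : Submodule B P := LinearMap.ker (t • (LinearMap.id : P →ₗ[B] P))

variable (ht : t ∈ nonZeroDivisors B) (hfit : Fitt.ideal B P k = Ideal.span {t})
  (hbot : ∀ j, j < k → Fitt.ideal B P j = ⊥)

include hbot in
theorem hk_of : k = 0 ∨ Fitt.ideal B P (k - 1) = ⊥ := by
  rcases Nat.eq_zero_or_pos k with h | h
  · exact Or.inl h
  · exact Or.inr (hbot _ (by omega))

include ht hfit hbot in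
theorem rank_quot (p : PrimeSpectrum B) :
    Module.rankAtStalk (R := B) (P ⧸ tors P t) p = k := by
  obtain ⟨g, hg, hfree, hrk⟩ := quot_locFree P k t ht hfit (hk_of P k hbot) p.asIdeal
  haveI := quot_projective P k t ht hfit (hk_of P k hbot)
  have hq : p ∈ Set.range (PrimeSpectrum.comap (algebraMap B (Localization.Away g))) := by
    rw [PrimeSpectrum.localization_away_comap_range (Localization.Away g) g]
    exact (PrimeSpectrum.mem_basicOpen g p).2 hg
  obtain ⟨p', hp'⟩ := hq
  rw [← hp', ← Module.rankAtStalk_isBaseChange
    (LocalizedModule.isBaseChange (Submonoid.powers g) (P ⧸ tors P t)) p',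
    Module.rankAtStalk_eq_finrank_of_free]
  simp only [Pi.natCast_apply, Nat.cast_id]
  exact hrk

/-- the quotient by the torsion as a point of the Grassmannian -/
def grassT : Module.Grassmannian B P k where
  toSubmodule := tors P t
  finite_quotient := inferInstance
  projective_quotient := quot_projective P k t ht hfit (hk_of P k hbot)
  rankAtStalk_eq := rank_quot P k t ht hfit hbot

include ht hfit hbot in
/-- every point of the Grassmannian is the torsion submodule -/
theorem eq_tors (N : Module.Grassmannian B P k) : N.toSubmodule = tors P t := by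
  have hle : tors P t ≤ N.toSubmodule := by
    intro x hx
    rw [LinearMap.mem_ker] at hx
    have hx' : t • x = 0 := hx
    have hreg : IsSMulRegular (P ⧸ N.toSubmodule) t :=
      Module.Flat.isSMulRegular_of_nonZeroDivisors ht
    have h3 : t • N.toSubmodule.mkQ x = t • (0 : P ⧸ N.toSubmodule) := by
      rw [← map_smul, hx', map_zero, smul_zero]
    have h4 := hreg h3
    rwa [Submodule.mkQ_apply, Submodule.Quotient.mk_eq_zero] at h4
  haveI := quot_projective P k t ht hfit (hk_of P k hbot)
  let q : (P ⧸ tors P t) →ₗ[B] (P ⧸ N.toSubmodule) := Submodule.mapQ _ _ LinearMap.id hle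
  have hq : Function.Surjective q := by
    intro y
    obtain ⟨x, rfl⟩ := Submodule.mkQ_surjective _ y
    exact ⟨Submodule.mkQ _ x, rfl⟩
  have hbij : Function.Bijective q := by
    apply Module.bijective_of_surjective_of_rankAtStalk_eq hq
    intro m _
    rw [rank_quot P k t ht hfit hbot, N.rankAtStalk_eq]
  apply le_antisymm _ hle
  intro x hx
  have h1 : q (Submodule.mkQ _ x) = 0 := by
    show Submodule.mkQ N.toSubmodule x = 0
    rw [Submodule.mkQ_apply, Submodule.Quotient.mk_eq_zero]
    exact hx
  have h2 := hbij.1 (h1.trans (map_zero q).symm)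
  rwa [Submodule.mkQ_apply, Submodule.Quotient.mk_eq_zero] at h2

include ht hfit hbot in
theorem grass_subsingleton (N N' : Module.Grassmannian B P k) : N = N' := by
  apply Module.Grassmannian.ext
  rw [eq_tors P k t ht hfit hbot N, eq_tors P k t ht hfit hbot N']

end Groth.Agent.Lib.Helper5.QuotBlow

end
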