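import Mathlib
import Groth.Agent.Lib.Helper5.QuotBlow.GrassUE
import Groth.Agent.Lib.Helper4.Fitting19

/-!
# Points of the two Quot schemes of a module of homological dimension one (helper5)

For `σ : R^m → R^(m+δ)` injective, `M = coker σ`, `K = coker σ^∨`, and an `R`-algebra `B` in which
`Fit_j(M)` vanishes for `j < d` and `Fit_d(M)` is generated by a nonzerodivisor, the modules
`B ⊗ M`, `B ⊗ K` have exactly one locally free quotient of rank `d`, `d - δ`.
-/

set_option autoImplicit false
universe u
open Module TensorProduct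

noncomputable section

namespace Groth.Agent.Lib.Helper5.QuotBlow

open Groth.Agent.Helper4.Fitting Groth.Agent.Lib.Helper4.Fitting19

variable {R : Type u} [CommRing R] {m δ : ℕ}
  (σ : (Fin m → R) →ₗ[R] (Fin (m + δ) → R))

/-- the cokernel of `σ` -/
abbrev Mσ : Type u := (Fin (m + δ) → R) ⧸ LinearMap.range σ

/-- the cokernel of the dual of `σ` -/
abbrev Kσ : Type u := Module.Dual R (Fin m → R) ⧸ LinearMap.range σ.dualMap

instance : Module.FinitePresentation R (Mσ σ) :=
  Module.finitePresentation_of_surjective (LinearMap.range σ).mkQ (Submodule.mkQ_surjective _)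
    (by rw [Submodule.ker_mkQ, LinearMap.range_eq_map]; exact Submodule.FG.map _ Module.Finite.fg_top)

instance : Module.FinitePresentation R (Kσ σ) :=
  haveI : Module.FinitePresentation R (Module.Dual R (Fin m → R)) :=
    Module.finitePresentation_of_projective _ _
  Module.finitePresentation_of_surjective (LinearMap.range σ.dualMap).mkQ
    (Submodule.mkQ_surjective _)
    (by rw [Submodule.ker_mkQ, LinearMap.range_eq_map]; exact Submodule.FG.map _ Module.Finite.fg_top)

theorem fitt_K (hσ : Function.Injective σ) (j : ℕ) :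
    Fitt.ideal R (Kσ σ) j = Fitt.ideal R (Mσ σ) (δ + j) := by
  have := (S14347_main R m (m + δ) σ hσ).1 j
  rw [Nat.add_sub_cancel_left] at this
  exact this.symm

variable (d : ℕ) (hd : δ ≤ d) (B : Type u) [CommRing B] [Algebra R B]
  (hlow : ∀ j, j < d → (Fitt.ideal R (Mσ σ) j).map (algebraMap R B) = ⊥) (t : B)
  (ht : t ∈ nonZeroDivisors B)
  (htop : (Fitt.ideal R (Mσ σ) d).map (algebraMap R B) = Ideal.span {t})

include hlow ht htop in
theorem subsingleton_plus (N N' : Module.Grassmannian B (B ⊗[R] Mσ σ) d) : N = N' :=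
  grass_subsingleton (B ⊗[R] Mσ σ) d t ht (by rw [ideal_baseChange, htop])
    (fun j hj => by rw [ideal_baseChange, hlow j hj]) N N'

include hlow ht htop in
theorem nonempty_plus : Nonempty (Module.Grassmannian B (B ⊗[R] Mσ σ) d) :=
  ⟨grassT (B ⊗[R] Mσ σ) d t ht (by rw [ideal_baseChange, htop])
    (fun j hj => by rw [ideal_baseChange, hlow j hj])⟩

include hd htop in
theorem fitK_top (hσ : Function.Injective σ) :
    Fitt.ideal B (B ⊗[R] Kσ σ) (d - δ) = Ideal.span {t} := by
  rw [ideal_baseChange, fitt_K σ hσ, Nat.add_sub_cancel' hd, htop]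

include hlow in
theorem fitK_low (hσ : Function.Injective σ) (j : ℕ) (hj : j < d - δ) :
    Fitt.ideal B (B ⊗[R] Kσ σ) j = ⊥ := by
  rw [ideal_baseChange, fitt_K σ hσ, hlow _ (by omega)]

include hd hlow ht htop in
theorem subsingleton_minus (hσ : Function.Injective σ)
    (N N' : Module.Grassmannian B (B ⊗[R] Kσ σ) (d - δ)) : N = N' :=
  grass_subsingleton (B ⊗[R] Kσ σ) (d - δ) t ht (fitK_top σ d hd B t htop hσ)
    (fitK_low σ d B hlow hσ) N N'

include hd hlow ht htop in
theorem nonempty_minus (hσ : Function.Injective σ) :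
    Nonempty (Module.Grassmannian B (B ⊗[R] Kσ σ) (d - δ)) :=
  ⟨grassT (B ⊗[R] Kσ σ) (d - δ) t ht (fitK_top σ d hd B t htop hσ)
    (fitK_low σ d B hlow hσ)⟩

end Groth.Agent.Lib.Helper5.QuotBlow

end
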