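import Mathlib
import Groth.Agent.Lib.Helper5.Grass.GrChartAlg

/-!
# Minors of a matrix whose rows and columns are combinations of a fixed set of rows and columns
(helper5)
-/

set_option autoImplicit false
universe u
open Matrix

noncomputable section

namespace Groth.Agent.Lib.Helper5.QuotBlow

open Groth.Agent.Lib.Helper5.Grass.GrChartAlg

section Pure
variable {C : Type*} [CommRing C] {n m d d' r : ℕ} (S : Matrix (Fin n) (Fin m) C)
  (ip : Fin d → Fin n) (kp : Fin r → Fin n)
  (hcovp : ∀ l, (∃ a, ip a = l) ∨ (∃ a, kp a = l))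
  (x : Fin d → Fin r → C) (hrow : ∀ a c, S (ip a) c = ∑ b, x a b * S (kp b) c)
  (im : Fin d' → Fin m) (km : Fin r → Fin m)
  (hcovm : ∀ l, (∃ a, im a = l) ∨ (∃ a, km a = l))
  (y : Fin d' → Fin r → C) (hcol : ∀ l a, S l (im a) = ∑ b, y a b * S l (km b))

include hcovp hrow hcovm hcol in
/-- every `r`-minor is a multiple of the distinguished one -/
theorem det_submatrix_mem (e : Fin r → Fin n) (c : Fin r → Fin m) :
    (S.submatrix e c).det ∈ Ideal.span {(S.submatrix kp km).det} := by
  classical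
  have hL : ∀ l, ∃ row : Fin r → C, ∀ c, S l c = ∑ b, row b * S (kp b) c := by
    intro l
    rcases hcovp l with ⟨a, rfl⟩ | ⟨a, rfl⟩
    · exact ⟨x a, hrow a⟩
    · refine ⟨Pi.single a 1, fun c => ?_⟩
      simp [Pi.single_apply]
  have hR : ∀ l', ∃ col : Fin r → C, ∀ l, S l l' = ∑ b, col b * S l (km b) := by
    intro l'
    rcases hcovm l' with ⟨a, rfl⟩ | ⟨a, rfl⟩
    · exact ⟨y a, fun l => hcol l a⟩
    · refine ⟨Pi.single a 1, fun l => ?_⟩
      simp [Pi.single_apply]
  choose L hL using hL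
  choose Rr hR using hR
  have hfac : S.submatrix e c =
      (Matrix.of fun i b => L (e i) b) * S.submatrix kp km * (Matrix.of fun b' k => Rr (c k) b') := by
    ext i k
    simp only [Matrix.submatrix_apply, Matrix.mul_apply, Matrix.of_apply]
    rw [hL (e i) (c k)]
    have h1 : ∀ b, S (kp b) (c k) = ∑ x, Rr (c k) x * S (kp b) (km x) :=
      fun b => hR (c k) (kp b)
    simp_rw [h1, Finset.mul_sum, Finset.sum_mul]
    rw [Finset.sum_comm]
    refine Finset.sum_congr rfl fun x _ => Finset.sum_congr rfl fun b _ => ?_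
    ring
  rw [hfac, Matrix.det_mul, Matrix.det_mul, Ideal.mem_span_singleton']
  exact ⟨(Matrix.of fun i b => L (e i) b).det * (Matrix.of fun b' k => Rr (c k) b').det, by ring⟩

end Pure

section MatOf
variable {n q : ℕ} (ι : Fin q → Fin n)
  {B : Type u} [CommRing B] (g : Var ι → B)

theorem matOf_mulVec (u : Fin n → B) (a : Fin q) :
    (matOf ι g).mulVec u a =
      u (ι a) + ∑ w : {j : Fin n // j ∉ Set.range ι}, g (a, w) * u w.1 := by
  rw [Matrix.mulVec, dotProduct]
  have key := Fintype.sum_subtype_add_sum_subtype (M := B) (fun l : Fin n => l ∈ Set.range ι)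
    (fun l => matOf ι g a l * u l)
  rw [← key]
  congr 1
  · rw [Finset.sum_eq_single ⟨ι a, a, rfl⟩]
    · simp [matOf]
    · rintro ⟨l, hl⟩ _ hne
      have h1 : ¬ ι a = l := fun h => hne (Subtype.ext h.symm)
      simp [matOf, hl, h1]
    · intro h
      exact (h (by simp)).elim
  · refine Finset.sum_congr rfl ?_
    rintro ⟨l, hl⟩ _
    simp [matOf, hl]

/-- the rows in `ι` of a matrix killed by `matOf ι g` are combinations of the other rows -/
theorem row_eq_of_matOf_mul_eq_zero {m r : ℕ} (S : Matrix (Fin n) (Fin m) B)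
    (h : matOf ι g * S = 0) (κ : Fin r ≃ {j : Fin n // j ∉ Set.range ι}) (a : Fin q) (c : Fin m) :
    S (ι a) c = ∑ b, (-g (a, κ b)) * S (κ b).1 c := by
  have h1 := congrFun (congrFun h a) c
  rw [Matrix.zero_apply] at h1
  have h2 : (matOf ι g * S) a c = (matOf ι g).mulVec (fun l => S l c) a := rfl
  rw [h2, matOf_mulVec] at h1
  rw [← Equiv.sum_comp κ] at h1
  simp only [neg_mul, Finset.sum_neg_distrib]
  exact eq_neg_of_add_eq_zero_left h1

theorem cover_of_equiv {r : ℕ} (κ : Fin r ≃ {j : Fin n // j ∉ Set.range ι}) (l : Fin n) :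
    (∃ a, ι a = l) ∨ (∃ a, (κ a).1 = l) := by
  by_cases hl : l ∈ Set.range ι
  · exact Or.inl hl
  · exact Or.inr ⟨κ.symm ⟨l, hl⟩, by rw [Equiv.apply_symm_apply]⟩

end MatOf

end Groth.Agent.Lib.Helper5.QuotBlow

end
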