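import Mathlib
import Groth.Agent.Lib.Helper5.QuotBlow.Minors
import Groth.Agent.Lib.Helper5.QuotBlow.FitBC
import Groth.Agent.Lib.Helper5.BlowGr.ChartAlg

/-!
# The ideal of minors on a product of charts of the two Quot schemes (helper5)

On the tensor product of a chart algebra of the Quot scheme of `coker σ` and a chart algebra of the
Quot scheme of `coker σ^∨` the ideal of `r`-minors of `σ` is generated by one minor.
-/

set_option autoImplicit false
universe u
open MvPolynomial TensorProduct Matrix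

noncomputable section

namespace Groth.Agent.Lib.Helper5.QuotBlow

open Groth.Agent.Lib.Helper5.Grass.GrChartAlg Groth.Agent.Lib.Helper4.Fitting19

section Gen
variable {R : Type u} [CommRing R] {n m d d' r : ℕ} (σ : (Fin m → R) →ₗ[R] (Fin n → R))
  (ip : Fin d → Fin n) (im : Fin d' → Fin m)
  (kp : Fin r ≃ {j : Fin n // j ∉ Set.range ip}) (km : Fin r ≃ {j : Fin m // j ∉ Set.range im})
  {Qp Qm : Type u} [CommRing Qp] [Algebra R Qp] [CommRing Qm] [Algebra R Qm]
  (πp : PR R ip →ₐ[R] Qp) (πm : PR R im →ₐ[R] Qm)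
  (hp : ∀ (c : Fin m) (a : Fin d),
    πp ((Mu (R := R) ip).mulVec (fun l => C (σ (Pi.single c 1) l)) a) = 0)
  (hm : ∀ (l : Fin n) (b : Fin d'),
    πm ((Mu (R := R) im).mulVec (fun c => C (σ (Pi.single c 1) l)) b) = 0)

/-- the matrix of `σ` over the tensor product -/
def Smat : Matrix (Fin n) (Fin m) (Qp ⊗[R] Qm) :=
  fun l c => algebraMap R (Qp ⊗[R] Qm) (σ (Pi.single c 1) l)

/-- the coordinates of the first chart -/
def gP : Var ip → Qp ⊗[R] Qm := fun v => (πp (X v)) ⊗ₜ[R] (1 : Qm)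

/-- the coordinates of the second chart -/
def gM : Var im → Qp ⊗[R] Qm := fun v => (1 : Qp) ⊗ₜ[R] (πm (X v))

/-- `R[x] → Q₊ → Q₊ ⊗ Q₋` -/
def ψP : PR R ip →+* Qp ⊗[R] Qm :=
  (Algebra.TensorProduct.includeLeft : Qp →ₐ[R] Qp ⊗[R] Qm).toRingHom.comp πp.toRingHom

/-- `R[y] → Q₋ → Q₊ ⊗ Q₋` -/
def ψM : PR R im →+* Qp ⊗[R] Qm :=
  (Algebra.TensorProduct.includeRight : Qm →ₐ[R] Qp ⊗[R] Qm).toRingHom.comp πm.toRingHom

theorem ψP_C (x : R) : ψP (Qm := Qm) ip πp (C x) = algebraMap R (Qp ⊗[R] Qm) x := by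
  show (Algebra.TensorProduct.includeLeft : Qp →ₐ[R] Qp ⊗[R] Qm) (πp (C x)) = _
  rw [← MvPolynomial.algebraMap_eq, AlgHom.commutes, AlgHom.commutes]

theorem ψM_C (x : R) : ψM (Qp := Qp) im πm (C x) = algebraMap R (Qp ⊗[R] Qm) x := by
  show (Algebra.TensorProduct.includeRight : Qm →ₐ[R] Qp ⊗[R] Qm) (πm (C x)) = _
  rw [← MvPolynomial.algebraMap_eq, AlgHom.commutes, AlgHom.commutes]

theorem matOf_gP : matOf ip (gP (Qm := Qm) ip πp) = (Mu (R := R) ip).map (ψP (Qm := Qm) ip πp) := by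
  rw [Mu, matOf_map]
  rfl

theorem matOf_gM : matOf im (gM (Qp := Qp) im πm) = (Mu (R := R) im).map (ψM (Qp := Qp) im πm) := by
  rw [Mu, matOf_map]
  rfl

include hp in
theorem matOf_mul_Smat : matOf ip (gP (Qm := Qm) ip πp) * Smat (Qp := Qp) (Qm := Qm) σ = 0 := by
  ext a c
  rw [Matrix.zero_apply, matOf_gP]
  have h1 := RingHom.map_mulVec (ψP (Qm := Qm) ip πp) (Mu (R := R) ip)
    (fun l => C (σ (Pi.single c 1) l)) a
  have h2 : ψP (Qm := Qm) ip πp ((Mu (R := R) ip).mulVec (fun l => C (σ (Pi.single c 1) l)) a) = 0 := by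
    show (Algebra.TensorProduct.includeLeft : Qp →ₐ[R] Qp ⊗[R] Qm) (πp _) = 0
    rw [hp c a, map_zero]
  rw [h2] at h1
  rw [h1]
  simp only [Matrix.mul_apply, Matrix.mulVec, dotProduct, Function.comp_apply, ψP_C]
  rfl

include hm in
theorem matOf_mul_Smat_transpose :
    matOf im (gM (Qp := Qp) im πm) * (Smat (Qp := Qp) (Qm := Qm) σ).transpose = 0 := by
  ext b l
  rw [Matrix.zero_apply, matOf_gM]
  have h1 := RingHom.map_mulVec (ψM (Qp := Qp) im πm) (Mu (R := R) im)
    (fun c => C (σ (Pi.single c 1) l)) b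
  have h2 : ψM (Qp := Qp) im πm ((Mu (R := R) im).mulVec (fun c => C (σ (Pi.single c 1) l)) b) = 0 := by
    show (Algebra.TensorProduct.includeRight : Qm →ₐ[R] Qp ⊗[R] Qm) (πm _) = 0
    rw [hm l b, map_zero]
  rw [h2] at h1
  rw [h1]
  simp only [Matrix.mul_apply, Matrix.mulVec, dotProduct, Function.comp_apply, ψM_C]
  rfl

/-- the distinguished minor -/
def Delta : Qp ⊗[R] Qm :=
  ((Smat (Qp := Qp) (Qm := Qm) σ).submatrix (fun b => (kp b).1) (fun b => (km b).1)).det

include hp hm in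
theorem minor_mem (e : Fin r → Fin n) (c : Fin r → Fin m) :
    ((Smat (Qp := Qp) (Qm := Qm) σ).submatrix e c).det ∈
      Ideal.span {Delta (Qp := Qp) (Qm := Qm) σ ip im kp km} := by
  refine det_submatrix_mem (Smat (Qp := Qp) (Qm := Qm) σ) ip (fun b => (kp b).1)
    (cover_of_equiv ip kp) (fun a b => -gP (Qm := Qm) ip πp (a, kp b))
    (fun a c => row_eq_of_matOf_mul_eq_zero ip _ _ (matOf_mul_Smat σ ip πp hp) kp a c)
    im (fun b => (km b).1) (cover_of_equiv im km) (fun a b => -gM (Qp := Qp) im πm (a, km b))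
    (fun l a => ?_) e c
  exact row_eq_of_matOf_mul_eq_zero im _ _ (matOf_mul_Smat_transpose σ im πm hm) km a l

include hp hm in
/-- **the ideal of `r`-minors of `σ` on the product of the charts is principal** -/
theorem map_minorIdeal_eq :
    (minorIdeal σ r).map (algebraMap R (Qp ⊗[R] Qm)) =
      Ideal.span {Delta (Qp := Qp) (Qm := Qm) σ ip im kp km} := by
  have hdet : ∀ (e : Fin r → Fin n) (c : Fin r → Fin m),
      algebraMap R (Qp ⊗[R] Qm) (Matrix.of fun i j => σ (Pi.single (c j) 1) (e i)).det =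
        ((Smat (Qp := Qp) (Qm := Qm) σ).submatrix e c).det := by
    intro e c
    rw [RingHom.map_det]
    rfl
  apply le_antisymm
  · rw [minorIdeal, Ideal.map_span, Ideal.span_le]
    rintro _ ⟨_, ⟨e, c, rfl⟩, rfl⟩
    rw [hdet]
    exact minor_mem σ ip im kp km πp πm hp hm e c
  · rw [Ideal.span_le, Set.singleton_subset_iff, SetLike.mem_coe, Delta, ← hdet]
    exact Ideal.mem_map_of_mem _ (Ideal.subset_span ⟨_, _, rfl⟩)

end Gen

end Groth.Agent.Lib.Helper5.QuotBlow

end
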