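import Mathlib
import Groth.Agent.Lib.Helper5.QuotBlow.ChartIdeal
import Groth.Agent.Lib.Helper5.BlowGr.Charts
import Groth.Agent.Lib.Helper5.BlowGr.UP
import Groth.Agent.Lib.Helper5.Grass.GrRep4

/-!
# The inverse image of the degeneracy locus on the product of the two Quot schemes is locally
principal (helper5)
-/

set_option autoImplicit false
universe u
open CategoryTheory CategoryTheory.Limits AlgebraicGeometry TopologicalSpace Opposite
open TensorProduct Module

noncomputable section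

namespace Groth.Agent.Lib.Helper5.QuotBlow

open Groth.Agent.Lib.Helper5.Grass.Pts Groth.Agent.Lib.Helper5.Grass.Pts2
  Groth.Agent.Lib.Helper5.Grass.PtsLoc Groth.Agent.Lib.Helper5.Grass.AffRep
  Groth.Agent.Lib.Helper5.Grass.GrRep Groth.Agent.Lib.Helper5.Grass.GrChartAlg
  Groth.Agent.Lib.Helper5.BlowGr Groth.Agent.Lib.Helper5.BlowGr.Charts
  Groth.Agent.Lib.Helper5.BlowGr.UP Groth.Agent.Lead.Blow
  Groth.Agent.Lib.Helper4.Fitting19

section Alg
variable {R : Type u} [CommRing R] {m δ : ℕ} (d : ℕ) (hd : δ ≤ d)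
  (σ : (Fin m → R) →ₗ[R] (Fin (m + δ) → R))

/-- the presentation of `M` -/
abbrev vP : (Fin (m + δ) → R) →ₗ[R] Mσ σ := (LinearMap.range σ).mkQ

theorem vP_surjective : Function.Surjective (vP σ) := Submodule.mkQ_surjective _

/-- the presentation of `K` -/
def vM : (Fin m → R) →ₗ[R] Kσ σ :=
  (LinearMap.range σ.dualMap).mkQ ∘ₗ (dotProductEquiv R (Fin m)).toLinearMap

theorem vM_surjective : Function.Surjective (vM σ) :=
  (Submodule.mkQ_surjective _).comp (dotProductEquiv R (Fin m)).surjective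

theorem col_mem_ker (c : Fin m) : σ (Pi.single c 1) ∈ LinearMap.ker (vP σ) := by
  rw [Submodule.ker_mkQ]
  exact ⟨_, rfl⟩

theorem row_mem_ker (l : Fin (m + δ)) :
    (fun c => σ (Pi.single c 1) l) ∈ LinearMap.ker (vM σ) := by
  rw [LinearMap.mem_ker, vM, LinearMap.comp_apply, Submodule.mkQ_apply,
    Submodule.Quotient.mk_eq_zero]
  refine ⟨LinearMap.proj l, ?_⟩
  ext c
  simp [dotProductEquiv, LinearMap.dualMap_apply, dotProduct, Pi.single_apply]

theorem card_compl {n q : ℕ} (ι : Fin q → Fin n) (hι : Function.Injective ι) :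
    Fintype.card {j : Fin n // j ∉ Set.range ι} = n - q := by
  classical
  have h1 : Fintype.card {j : Fin n // j ∉ Set.range ι} =
      Fintype.card (Fin n) - Fintype.card {j : Fin n // j ∈ Set.range ι} :=
    Fintype.card_subtype_compl _
  rw [h1, Fintype.card_fin]
  congr 1
  have h2 : Fintype.card (Set.range ι) = Fintype.card (Fin q) :=
    Set.card_range_of_injective hι
  rw [Fintype.card_fin] at h2
  convert h2

include hd in
/-- the inverse image of `Fit_d(M)` on the product of two charts is principal -/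
theorem exists_gen_chart (i : Idx (m + δ) d) (j : Idx m (d - δ))
    {Qp Qm : Type u} [CommRing Qp] [Algebra R Qp] [CommRing Qm] [Algebra R Qm]
    (πp : PR R (emb i) →ₐ[R] Qp) (πm : PR R (emb j) →ₐ[R] Qm)
    (hkp : ∀ x ∈ Jch (vP σ) i, πp x = 0) (hkm : ∀ x ∈ Jch (vM σ) j, πm x = 0) :
    ∃ Δ : Qp ⊗[R] Qm,
      (Fitt.ideal R (Mσ σ) d).map (algebraMap R (Qp ⊗[R] Qm)) = Ideal.span {Δ} := by
  have hdn : d ≤ m + δ := by
    have h1 := Fintype.card_le_of_injective _ (emb_inj i)
    simpa using h1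
  have hcp := card_compl (emb i) (emb_inj i)
  have hcm : Fintype.card {l : Fin m // l ∉ Set.range (emb j)} = m + δ - d := by
    rw [card_compl (emb j) (emb_inj j)]
    omega
  let kp : Fin (m + δ - d) ≃ {l : Fin (m + δ) // l ∉ Set.range (emb i)} :=
    (Fintype.equivFinOfCardEq hcp).symm
  let km : Fin (m + δ - d) ≃ {l : Fin m // l ∉ Set.range (emb j)} :=
    (Fintype.equivFinOfCardEq hcm).symm
  refine ⟨Delta (Qp := Qp) (Qm := Qm) σ (emb i) (emb j) kp km, ?_⟩
  rw [ideal_coker σ d]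
  refine map_minorIdeal_eq σ (emb i) (emb j) kp km πp πm ?_ ?_
  · intro c a
    apply hkp
    unfold Jch
    rw [obsK_Nuniv_eq]
    exact Ideal.subset_span ⟨_, col_mem_ker σ c, a, rfl⟩
  · intro l b
    apply hkm
    unfold Jch
    rw [obsK_Nuniv_eq]
    exact Ideal.subset_span ⟨_, row_mem_ker σ l, b, rfl⟩

end Alg

section Geo

/-- local principality can be checked on an open immersion (as in the lead's `Blow3`) -/
theorem locPrincipal_of_openImmersion {X U : Scheme.{u}} (𝓙 : X.IdealSheafData) (j : U ⟶ X)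
    [IsOpenImmersion j] (u : U) (O : U.affineOpens) (hu : u ∈ O.1) (f : Γ(U, O.1))
    (hI : (𝓙.comap j).ideal O = Ideal.span {f}) :
    ∃ V : X.affineOpens, j u ∈ V.1 ∧ ∃ g : Γ(X, V.1), 𝓙.ideal V = Ideal.span {g} := by
  refine ⟨⟨j ''ᵁ O.1, O.2.image_of_isOpenImmersion j⟩, ⟨u, hu, rfl⟩,
    (j.appIso O.1).inv.hom f, ?_⟩
  rw [Scheme.IdealSheafData.ideal_comap_of_isOpenImmersion] at hI
  have h1 : 𝓙.ideal ⟨j ''ᵁ O.1, O.2.image_of_isOpenImmersion j⟩ =
      Ideal.map (j.appIso O.1).inv.hom (Ideal.comap (j.appIso O.1).inv.hom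
        (𝓙.ideal ⟨j ''ᵁ O.1, O.2.image_of_isOpenImmersion j⟩)) := by
    rw [Ideal.map_comap_of_surjective]
    intro y
    refine ⟨(j.appIso O.1).hom.hom y, ?_⟩
    rw [← CommRingCat.comp_apply, Iso.hom_inv_id]
    rfl
  rw [h1, hI, Ideal.map_span, Set.image_singleton]

variable {R : Type u} [CommRing R]

/-- principality on a product of charts -/
theorem exists_principal_of_charts (Xp Xm : Over (Spec (CommRingCat.of R)))
    {Qp Qm : Type u} [CommRing Qp] [Algebra R Qp] [CommRing Qm] [Algebra R Qm]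
    (cp : Spec (CommRingCat.of Qp) ⟶ Xp.left) [IsOpenImmersion cp]
    (hcp : cp ≫ Xp.hom = Spec.map (CommRingCat.ofHom (algebraMap R Qp)))
    (cm : Spec (CommRingCat.of Qm) ⟶ Xm.left) [IsOpenImmersion cm]
    (hcm : cm ≫ Xm.hom = Spec.map (CommRingCat.ofHom (algebraMap R Qm)))
    (I : Ideal R) (Δ : Qp ⊗[R] Qm)
    (hΔ : I.map (algebraMap R (Qp ⊗[R] Qm)) = Ideal.span {Δ})
    (x : ↥(pullback Xp.hom Xm.hom)) (hxp : pullback.fst Xp.hom Xm.hom x ∈ Set.range cp)
    (hxm : pullback.snd Xp.hom Xm.hom x ∈ Set.range cm) :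
    ∃ V : (pullback Xp.hom Xm.hom).affineOpens, x ∈ V.1 ∧
      ∃ g : Γ(pullback Xp.hom Xm.hom, V.1),
        ((specIdeal I).comap (pullback.fst Xp.hom Xm.hom ≫ Xp.hom)).ideal V = Ideal.span {g} := by
  let J := pullback.map (Spec.map (CommRingCat.ofHom (algebraMap R Qp)))
    (Spec.map (CommRingCat.ofHom (algebraMap R Qm))) Xp.hom Xm.hom cp cm (𝟙 _)
    (by rw [Category.comp_id, hcp]) (by rw [Category.comp_id, hcm])
  have hxJ : x ∈ Set.range J := by
    rw [Scheme.Pullback.range_map]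
    exact ⟨hxp, hxm⟩
  obtain ⟨z, hz⟩ := hxJ
  let J' := (pullbackSpecIso R Qp Qm).inv ≫ J
  have hJ' : J' ((pullbackSpecIso R Qp Qm).hom z) = x := by
    rw [← Scheme.Hom.comp_apply, Iso.hom_inv_id_assoc]
    exact hz
  have hcomp : J' ≫ pullback.fst Xp.hom Xm.hom ≫ Xp.hom =
      Spec.map (CommRingCat.ofHom (algebraMap R (Qp ⊗[R] Qm))) := by
    rw [Category.assoc, ← Category.assoc J, pullback.lift_fst, Category.assoc, hcp,
      pullbackSpecIso_inv_fst_assoc, ← Spec.map_comp]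
    rfl
  have hid : ((specIdeal I).comap (pullback.fst Xp.hom Xm.hom ≫ Xp.hom)).comap J' =
      specIdeal (Ideal.span {Δ}) := by
    rw [← Scheme.IdealSheafData.comap_comp, hcomp, comap_SpecMap, hΔ]
  have htop := specIdeal_ideal_top (Ideal.span {Δ})
  rw [← hid, Ideal.map_span, Set.image_singleton] at htop
  obtain ⟨V, hV, g, hg⟩ := locPrincipal_of_openImmersion _ J' _ ⟨⊤, isAffineOpen_top _⟩
    (Set.mem_univ ((pullbackSpecIso R Qp Qm).hom z)) _ htop
  rw [hJ'] at hV
  exact ⟨V, hV, g, hg⟩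

end Geo

end Groth.Agent.Lib.Helper5.QuotBlow

end
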