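import Mathlib
import Groth.Agent.Lib.Helper5.QuotBlow.FitBC
import Groth.Agent.Lib.Helper5.BlowGr.UP
import Groth.Agent.Lib.Helper5.Grass.Pts

/-!
# The product of the two Quot schemes is the blowing up of the degeneracy locus (helper5)

The universal property.
-/

set_option autoImplicit false
universe u
open CategoryTheory CategoryTheory.Limits AlgebraicGeometry TopologicalSpace Opposite
open TensorProduct Module

noncomputable section

namespace Groth.Agent.Lib.Helper5.QuotBlow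

open Groth.Agent.Lib.Helper5.Grass.Pts Groth.Agent.Lib.Helper5.BlowGr.UP Groth.Agent.Lead.Blow

variable {R : Type u} [CommRing R] {m δ : ℕ} (d : ℕ) (hd : δ ≤ d)
  (σ : (Fin m → R) →ₗ[R] (Fin (m + δ) → R)) (hσ : Function.Injective σ)
  (Bp Bm : Over (Spec (CommRingCat.of R)))
  (ep : ∀ A : CommAlgCat.{u} R, (SpecO A ⟶ Bp) ≃
    (Module.Grassmannian.functor (R := R) (M := Mσ σ) d).obj A)
  (em : ∀ A : CommAlgCat.{u} R, (SpecO A ⟶ Bm) ≃
    (Module.Grassmannian.functor (R := R) (M := Kσ σ) (d - δ)).obj A)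

/-- the ideal of the lower Fitting ideals -/
abbrev Flow : Ideal R := ⨆ j < d, Fitt.ideal R (Mσ σ) j

variable (c : pullback Bp.hom Bm.hom ⟶ Spec (CommRingCat.of (R ⧸ Flow d σ)))
  (hc : c ≫ Spec.map (CommRingCat.ofHom (Ideal.Quotient.mk (Flow d σ))) =
    pullback.fst Bp.hom Bm.hom ≫ Bp.hom)

section Lift
variable (B : Type u) [CommRing B] (φ : R ⧸ Flow d σ →+* B) (t : B)
  (ht : t ∈ nonZeroDivisors B)
  (hmap : Ideal.map φ ((Fitt.ideal R (Mσ σ) d).map (Ideal.Quotient.mk (Flow d σ))) =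
    Ideal.span {t})

theorem hlow_of (j : ℕ) (hj : j < d) :
    (Fitt.ideal R (Mσ σ) j).map (φ.comp (Ideal.Quotient.mk (Flow d σ))) = ⊥ := by
  rw [← Ideal.map_map]
  have h1 : Fitt.ideal R (Mσ σ) j ≤ Flow d σ := le_iSup₂_of_le j hj le_rfl
  have h2 : (Fitt.ideal R (Mσ σ) j).map (Ideal.Quotient.mk (Flow d σ)) = ⊥ := by
    rw [Ideal.map_eq_bot_iff_le_ker, Ideal.mk_ker]
    exact h1
  rw [h2, Ideal.map_bot]

include hc in
theorem comp_fst_hom (h : Spec (CommRingCat.of B) ⟶ pullback Bp.hom Bm.hom)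
    (hh : h ≫ c = Spec.map (CommRingCat.ofHom φ)) :
    (h ≫ pullback.fst Bp.hom Bm.hom) ≫ Bp.hom =
      Spec.map (CommRingCat.ofHom (φ.comp (Ideal.Quotient.mk (Flow d σ)))) := by
  rw [Category.assoc, ← hc, ← Category.assoc, hh, ← Spec.map_comp]
  rfl

include hc in
theorem comp_snd_hom (h : Spec (CommRingCat.of B) ⟶ pullback Bp.hom Bm.hom)
    (hh : h ≫ c = Spec.map (CommRingCat.ofHom φ)) :
    (h ≫ pullback.snd Bp.hom Bm.hom) ≫ Bm.hom =
      Spec.map (CommRingCat.ofHom (φ.comp (Ideal.Quotient.mk (Flow d σ)))) := by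
  rw [Category.assoc, ← pullback.condition, ← Category.assoc]
  exact comp_fst_hom d σ Bp Bm c hc B φ h hh

include hd hσ ep em hc ht hmap in
theorem lift_unique (h₁ h₂ : Spec (CommRingCat.of B) ⟶ pullback Bp.hom Bm.hom)
    (hh₁ : h₁ ≫ c = Spec.map (CommRingCat.ofHom φ))
    (hh₂ : h₂ ≫ c = Spec.map (CommRingCat.ofHom φ)) : h₁ = h₂ := by
  letI : Algebra R B := (φ.comp (Ideal.Quotient.mk (Flow d σ))).toAlgebra
  have hlow : ∀ j, j < d → (Fitt.ideal R (Mσ σ) j).map (algebraMap R B) = ⊥ :=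
    fun j hj => hlow_of d σ B φ j hj
  have htop : (Fitt.ideal R (Mσ σ) d).map (algebraMap R B) = Ideal.span {t} := by
    rw [← hmap, Ideal.map_map]
    rfl
  apply pullback.hom_ext
  · let g₁ : SpecO (CommAlgCat.of R B) ⟶ Bp :=
      Over.homMk (h₁ ≫ pullback.fst Bp.hom Bm.hom) (comp_fst_hom d σ Bp Bm c hc B φ h₁ hh₁)
    let g₂ : SpecO (CommAlgCat.of R B) ⟶ Bp :=
      Over.homMk (h₂ ≫ pullback.fst Bp.hom Bm.hom) (comp_fst_hom d σ Bp Bm c hc B φ h₂ hh₂)
    have h3 : g₁ = g₂ := (ep (CommAlgCat.of R B)).injective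
      (subsingleton_plus σ d B hlow t ht htop _ _)
    exact congrArg (fun g => g.left) h3
  · let g₁ : SpecO (CommAlgCat.of R B) ⟶ Bm :=
      Over.homMk (h₁ ≫ pullback.snd Bp.hom Bm.hom) (comp_snd_hom d σ Bp Bm c hc B φ h₁ hh₁)
    let g₂ : SpecO (CommAlgCat.of R B) ⟶ Bm :=
      Over.homMk (h₂ ≫ pullback.snd Bp.hom Bm.hom) (comp_snd_hom d σ Bp Bm c hc B φ h₂ hh₂)
    have h3 : g₁ = g₂ := (em (CommAlgCat.of R B)).injective
      (subsingleton_minus σ d hd B hlow t ht htop hσ _ _)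
    exact congrArg (fun g => g.left) h3

include hd hσ ep em hc ht hmap in
theorem exists_lift :
    ∃ h : Spec (CommRingCat.of B) ⟶ pullback Bp.hom Bm.hom,
      h ≫ c = Spec.map (CommRingCat.ofHom φ) := by
  letI : Algebra R B := (φ.comp (Ideal.Quotient.mk (Flow d σ))).toAlgebra
  have hlow : ∀ j, j < d → (Fitt.ideal R (Mσ σ) j).map (algebraMap R B) = ⊥ :=
    fun j hj => hlow_of d σ B φ j hj
  have htop : (Fitt.ideal R (Mσ σ) d).map (algebraMap R B) = Ideal.span {t} := by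
    rw [← hmap, Ideal.map_map]
    rfl
  obtain ⟨Np⟩ := nonempty_plus σ d B hlow t ht htop
  obtain ⟨Nm⟩ := nonempty_minus σ d hd B hlow t ht htop hσ
  let gp : SpecO (CommAlgCat.of R B) ⟶ Bp := (ep (CommAlgCat.of R B)).symm Np
  let gm : SpecO (CommAlgCat.of R B) ⟶ Bm := (em (CommAlgCat.of R B)).symm Nm
  have hw : gp.left ≫ Bp.hom = gm.left ≫ Bm.hom := (Over.w gp).trans (Over.w gm).symm
  refine ⟨pullback.lift gp.left gm.left hw, ?_⟩
  haveI : IsClosedImmersion (Spec.map (CommRingCat.ofHom (Ideal.Quotient.mk (Flow d σ)))) :=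
    IsClosedImmersion.spec_of_surjective _ Ideal.Quotient.mk_surjective
  rw [← cancel_mono (Spec.map (CommRingCat.ofHom (Ideal.Quotient.mk (Flow d σ)))),
    Category.assoc, hc, pullback.lift_fst_assoc, ← Spec.map_comp]
  exact Over.w gp

end Lift

include hd hσ ep em hc in
/-- **the universal property** -/
theorem isBlowUp_c
    (hC : BlowUp.IsEffCartierIdeal ((specIdeal (Fitt.ideal R (Mσ σ) d)).comap
      (pullback.fst Bp.hom Bm.hom ≫ Bp.hom))) :
    BlowUp.IsBlowUp c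
      (specIdeal ((Fitt.ideal R (Mσ σ) d).map (Ideal.Quotient.mk (Flow d σ)))) := by
  refine isBlowUp_of_spec _ c
    (fun B _ φ t ht hmap h₁ h₂ hh₁ hh₂ =>
      lift_unique d hd σ hσ Bp Bm ep em c hc B φ t ht hmap h₁ h₂ hh₁ hh₂)
    (fun B _ φ t ht hmap => exists_lift d hd σ hσ Bp Bm ep em c hc B φ t ht hmap) ?_
  rw [← comap_SpecMap, ← Scheme.IdealSheafData.comap_comp, hc]
  exact hC

end Groth.Agent.Lib.Helper5.QuotBlow

end
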