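import Mathlib
import Groth.Agent.Lib.Helper5.QuotBlow.Part1
import Groth.Agent.Lib.Helper5.QuotBlow.Part2
import Groth.Prelude.Def_CurvBase

/-!
# The product of the two Quot schemes of a module of homological dimension one and the blowing
up of its degeneracy locus (helper5)
-/

set_option autoImplicit false
universe u
open CategoryTheory CategoryTheory.Limits AlgebraicGeometry TopologicalSpace Opposite
open TensorProduct Module

noncomputable section

namespace Groth.Agent.Lib.Helper5.QuotBlow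

open Groth.Agent.Lib.Helper5.Grass.Pts Groth.Agent.Lib.Helper5.Grass.Pts2
  Groth.Agent.Lib.Helper5.Grass.PtsLoc Groth.Agent.Lib.Helper5.Grass.AffRep
  Groth.Agent.Lib.Helper5.Grass.GrRep Groth.Agent.Lib.Helper5.Grass.GrChartAlg
  Groth.Agent.Lib.Helper5.BlowGr Groth.Agent.Lib.Helper5.BlowGr.Charts
  Groth.Agent.Lib.Helper5.BlowGr.UP Groth.Agent.Lead.Blow

variable {R : Type u} [CommRing R] {m δ : ℕ} (d : ℕ) (hd : δ ≤ d)
  (σ : (Fin m → R) →ₗ[R] (Fin (m + δ) → R))
  (Bp Bm : Over (Spec (CommRingCat.of R)))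
  (ep : ∀ A : CommAlgCat.{u} R, (SpecO A ⟶ Bp) ≃
    (Module.Grassmannian.functor (R := R) (M := Mσ σ) d).obj A)
  (hep : ∀ (A A' : CommAlgCat.{u} R) (φ : A ⟶ A') (g : SpecO A ⟶ Bp) (g' : SpecO A' ⟶ Bp),
    g'.left = Spec.map (CommRingCat.ofHom φ.hom.toRingHom) ≫ g.left →
      ep A' g' = (Module.Grassmannian.functor (R := R) (M := Mσ σ) d).map φ (ep A g))
  (em : ∀ A : CommAlgCat.{u} R, (SpecO A ⟶ Bm) ≃
    (Module.Grassmannian.functor (R := R) (M := Kσ σ) (d - δ)).obj A)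
  (hem : ∀ (A A' : CommAlgCat.{u} R) (φ : A ⟶ A') (g : SpecO A ⟶ Bm) (g' : SpecO A' ⟶ Bm),
    g'.left = Spec.map (CommRingCat.ofHom φ.hom.toRingHom) ≫ g.left →
      em A' g' = (Module.Grassmannian.functor (R := R) (M := Kσ σ) (d - δ)).map φ (em A g))

include hd hep hem in
/-- **the inverse image of `Fit_d(M)` on the product of the Quot schemes is locally principal** -/
theorem isLocPrincipal :
    Curv2.IsLocPrincipal ((specIdeal (Fitt.ideal R (Mσ σ) d)).comap
      (pullback.fst Bp.hom Bm.hom ≫ Bp.hom)) := by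
  intro x _
  obtain ⟨i, hi⟩ := exists_mem_range_jc Bp ep hep (PM (vP σ)) (νMf (vP σ) (vP_surjective σ))
    (hcov_M (vP σ) (vP_surjective σ)) (pullback.fst Bp.hom Bm.hom x)
  obtain ⟨j, hj⟩ := exists_mem_range_jc Bm em hem (PM (vM σ)) (νMf (vM σ) (vM_surjective σ))
    (hcov_M (vM σ) (vM_surjective σ)) (pullback.snd Bp.hom Bm.hom x)
  haveI := isOpenImmersion_jc Bp ep hep (PM (vP σ)) (νMf (vP σ) (vP_surjective σ))
    (hinj_M (vP σ) (vP_surjective σ)) (hopen_M (vP σ) (vP_surjective σ)) i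
  haveI := isOpenImmersion_jc Bm em hem (PM (vM σ)) (νMf (vM σ) (vM_surjective σ))
    (hinj_M (vM σ) (vM_surjective σ)) (hopen_M (vM σ) (vM_surjective σ)) j
  obtain ⟨Δ, hΔ⟩ := exists_gen_chart d hd σ i j (πch (vP σ) i) (πch (vM σ) j)
    (fun x hx => Ideal.Quotient.eq_zero_iff_mem.2 hx)
    (fun x hx => Ideal.Quotient.eq_zero_iff_mem.2 hx)
  exact exists_principal_of_charts Bp Bm
    (jc Bp ep (PM (vP σ)) (νMf (vP σ) (vP_surjective σ)) i).left
    (jc_w Bp ep (PM (vP σ)) (νMf (vP σ) (vP_surjective σ)) i)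
    (jc Bm em (PM (vM σ)) (νMf (vM σ) (vM_surjective σ)) j).left
    (jc_w Bm em (PM (vM σ)) (νMf (vM σ) (vM_surjective σ)) j) _ Δ hΔ x hi hj

include hd hep hem in
/-- **main theorem** -/
theorem main (hσ : Function.Injective σ) :
    Curv2.IsLocPrincipal
        ((Spec.map (CommRingCat.ofHom (Ideal.Quotient.mk (Fitt.ideal R (Mσ σ) d)))).ker.comap
          (pullback.fst Bp.hom Bm.hom ≫ Bp.hom)) ∧
      ∀ c : pullback Bp.hom Bm.hom ⟶ Spec (CommRingCat.of (R ⧸ Flow d σ)),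
        c ≫ Spec.map (CommRingCat.ofHom (Ideal.Quotient.mk (Flow d σ))) =
            pullback.fst Bp.hom Bm.hom ≫ Bp.hom →
          BlowUp.IsEffCartierIdeal
              ((Spec.map (CommRingCat.ofHom
                (Ideal.Quotient.mk (Fitt.ideal R (Mσ σ) d)))).ker.comap
                (pullback.fst Bp.hom Bm.hom ≫ Bp.hom)) →
            BlowUp.IsBlowUp c
              (Spec.map (CommRingCat.ofHom (Ideal.Quotient.mk
                ((Fitt.ideal R (Mσ σ) d).map (Ideal.Quotient.mk (Flow d σ)))))).ker := by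
  rw [ker_SpecMap_mk]
  refine ⟨isLocPrincipal d hd σ Bp Bm ep hep em hem, fun c hc hC => ?_⟩
  rw [ker_SpecMap_mk]
  exact isBlowUp_c d hd σ hσ Bp Bm ep em c hc hC

end Groth.Agent.Lib.Helper5.QuotBlow

end
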